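import Groth.Agent.ProjSectLib.Basic
import Groth.Agent.ProjTopLib.Basic

/-! Homogeneous prime avoidance and hypersurfaces through a closed subset. -/

set_option autoImplicit false
universe u

open AlgebraicGeometry

namespace ProjSectLib

variable {R A : Type u} [CommRing R] [CommRing A] [Algebra R A] (𝒜 : ℕ → Submodule R A) [GradedAlgebra 𝒜]

/-- Homogeneous prime avoidance for relevant primes. -/
theorem exists_avoid (J : Ideal A) (hJ : J.IsHomogeneous 𝒜) (S : Finset (ProjectiveSpectrum 𝒜))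
    (hS : ∀ q ∈ S, ¬ J ≤ q.asHomogeneousIdeal.toIdeal) :
    ∃ (h : A) (d : ℕ), 0 < d ∧ h ∈ 𝒜 d ∧ h ∈ J ∧ ∀ q ∈ S, h ∉ q.asHomogeneousIdeal := by
  classical
  induction S using Finset.strongInduction with
  | _ S ih =>
    rcases S.eq_empty_or_nonempty with rfl | hne
    · exact ⟨0, 1, one_pos, zero_mem _, zero_mem _, by simp⟩
    obtain ⟨p, hp, hmin⟩ := S.exists_minimal hne
    obtain ⟨h, d, hd, hh, hhJ, hav⟩ := ih (S.erase p) (Finset.erase_ssubset hp)
      (fun q hq => hS q (Finset.mem_of_mem_erase hq))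
    by_cases hhp : h ∈ p.asHomogeneousIdeal
    swap
    · refine ⟨h, d, hd, hh, hhJ, fun q hq => ?_⟩
      rcases eq_or_ne q p with rfl | hne
      · exact hhp
      · exact hav q (Finset.mem_erase.2 ⟨hne, hq⟩)
    have hhom : ∀ (I : Ideal A), I.IsHomogeneous 𝒜 → ¬ I ≤ p.asHomogeneousIdeal.toIdeal →
        ∃ (a : A) (e : ℕ), a ∈ 𝒜 e ∧ a ∈ I ∧ a ∉ p.asHomogeneousIdeal := by
      intro I hI hnot
      obtain ⟨a, haI, hap⟩ := SetLike.not_le_iff_exists.1 hnot
      by_contra hall
      refine hap ?_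
      rw [← DirectSum.sum_support_decompose 𝒜 a]
      refine Ideal.sum_mem _ fun i _ => ?_
      by_contra hi
      exact hall ⟨_, i, SetLike.coe_mem _, hI i haI, hi⟩
    have hprod : ∀ T : Finset (ProjectiveSpectrum 𝒜), T ⊆ S.erase p →
        ∃ (g : A) (e : ℕ), g ∈ 𝒜 e ∧ g ∉ p.asHomogeneousIdeal ∧ ∀ q ∈ T, g ∈ q.asHomogeneousIdeal := by
      intro T
      induction T using Finset.induction with
      | empty =>
        exact fun _ => ⟨1, 0, SetLike.one_mem_graded 𝒜, (Ideal.ne_top_iff_one _).1 p.isPrime.ne_top, by simp⟩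
      | insert q T hqT ihT =>
        intro hsub
        obtain ⟨g, e, hg, hgp, hgT⟩ := ihT ((Finset.subset_insert q T).trans hsub)
        have hq := hsub (Finset.mem_insert_self q T)
        have hnot : ¬ q.asHomogeneousIdeal.toIdeal ≤ p.asHomogeneousIdeal.toIdeal := fun hle =>
          (Finset.mem_erase.1 hq).1 (le_antisymm hle (hmin (Finset.mem_erase.1 hq).2 hle))
        obtain ⟨a, e', ha, haq, hap⟩ := hhom _ q.asHomogeneousIdeal.2 hnot
        refine ⟨g * a, e + e', SetLike.mul_mem_graded hg ha, fun hmem => ?_, fun r hr => ?_⟩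
        · exact (p.isPrime.mem_or_mem hmem).elim hgp hap
        · rcases Finset.mem_insert.1 hr with rfl | hr
          · exact Ideal.mul_mem_left _ _ haq
          · exact Ideal.mul_mem_right _ _ (hgT r hr)
    obtain ⟨g, e, hg, hgp, hgS⟩ := hprod _ subset_rfl
    obtain ⟨b, eb, hb, hbJ, hbp⟩ := hhom J hJ (hS p hp)
    obtain ⟨ec, c, hec, hc, hcp⟩ := ProjTopLib.exists_pos_not_mem 𝒜 p
    have hG : g * b * c ∈ 𝒜 (e + eb + ec) := SetLike.mul_mem_graded (SetLike.mul_mem_graded hg hb) hc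
    set E := e + eb + ec
    refine ⟨h ^ E + (g * b * c) ^ d, d * E, Nat.mul_pos hd (by omega), ?_, ?_, fun q hq => ?_⟩
    · refine add_mem ?_ ?_
      · have := SetLike.pow_mem_graded E hh
        rwa [smul_eq_mul, mul_comm] at this
      · have := SetLike.pow_mem_graded d hG
        rwa [smul_eq_mul] at this
    · exact add_mem (Ideal.pow_mem_of_mem _ hhJ _ (by omega))
        (Ideal.pow_mem_of_mem _ (Ideal.mul_mem_right _ _ (Ideal.mul_mem_left _ _ hbJ)) _ hd)
    · intro hmem
      rcases eq_or_ne q p with rfl | hne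
      · have h1 : h ^ E ∈ q.asHomogeneousIdeal.toIdeal := Ideal.pow_mem_of_mem _ hhp _ (by omega)
        have h2 := q.isPrime.mem_of_pow_mem d (((q.asHomogeneousIdeal.toIdeal).add_mem_iff_right h1).1 hmem)
        exact (q.isPrime.mem_or_mem h2).elim (fun h3 => (q.isPrime.mem_or_mem h3).elim hgp hbp) hcp
      · have hqS : q ∈ S.erase p := Finset.mem_erase.2 ⟨hne, hq⟩
        have h1 : (g * b * c) ^ d ∈ q.asHomogeneousIdeal.toIdeal :=
          Ideal.pow_mem_of_mem _ (Ideal.mul_mem_right _ _ (Ideal.mul_mem_right _ _ (hgS q hqS))) _ hd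
        exact hav q hqS (q.isPrime.mem_of_pow_mem E (((q.asHomogeneousIdeal.toIdeal).add_mem_iff_left h1).1 hmem))

open ProjDimLib in
theorem exists_hypersurfaces {k : Type u} [Field k] {n : ℕ}
    (X Y : Set (ProjectiveSpectrum (CohB1.polyGrading n k))) (hX : IsClosed X) (hY : IsClosed Y) (r : ℕ)
    (hr : ∀ x ∈ X, dPt x ≤ r) :
    ∀ j : ℕ, ∃ (h : Fin j → MvPolynomial (Fin (n + 1)) k) (d : Fin j → ℕ),
      (∀ i, 0 < d i ∧ (h i).IsHomogeneous (d i) ∧ ∀ y ∈ Y, h i ∈ y.asHomogeneousIdeal) ∧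
      ∀ x ∈ X, x ∉ Y → (∀ i, h i ∈ x.asHomogeneousIdeal) → dPt x + j ≤ r := by
  classical
  intro j
  induction j with
  | zero => exact ⟨Fin.elim0, Fin.elim0, fun i => i.elim0, fun x hx _ _ => by simpa using hr x hx⟩
  | succ j ih =>
    obtain ⟨h, d, hhd, hdim⟩ := ih
    let J := ProjectiveSpectrum.vanishingIdeal Y
    let IX := ProjectiveSpectrum.vanishingIdeal X
    let I := IX.toIdeal ⊔ Ideal.span (Set.range h)
    have hI : I.IsHomogeneous (CohB1.polyGrading n k) := Ideal.IsHomogeneous.sup IX.2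
      (Ideal.homogeneous_span _ _ (by rintro _ ⟨i, rfl⟩; exact ⟨d i, (hhd i).2.1⟩))
    have hfin : I.minimalPrimes.Finite := I.finite_minimalPrimes_of_isNoetherianRing _
    let S' : Set (ProjectiveSpectrum (CohB1.polyGrading n k)) :=
      {q | q.asHomogeneousIdeal.toIdeal ∈ I.minimalPrimes ∧ ¬ J.toIdeal ≤ q.asHomogeneousIdeal.toIdeal}
    have hS' : S'.Finite := by
      refine Set.Finite.of_finite_image (f := fun q => q.asHomogeneousIdeal.toIdeal) (hfin.subset ?_) ?_
      · rintro _ ⟨q, hq, rfl⟩; exact hq.1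
      · exact fun q _ q' _ e => ProjectiveSpectrum.ext (HomogeneousIdeal.ext e)
    obtain ⟨g, e, he, hg, hgJ, hgS⟩ := exists_avoid (CohB1.polyGrading n k) J.toIdeal J.2 hS'.toFinset
      fun q hq => ((Set.Finite.mem_toFinset hS').1 hq).2
    refine ⟨Fin.snoc h g, Fin.snoc d e, fun i => ?_, fun x hxX hxY hx => ?_⟩
    · induction i using Fin.lastCases with
      | last =>
        rw [Fin.snoc_last, Fin.snoc_last]
        exact ⟨he, hg, fun y hy => (ProjectiveSpectrum.mem_vanishingIdeal Y g).1 hgJ y hy⟩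
      | cast i => rw [Fin.snoc_castSucc, Fin.snoc_castSucc]; exact hhd i
    · have hIx : I ≤ x.asHomogeneousIdeal.toIdeal := by
        refine sup_le (fun a ha => (ProjectiveSpectrum.mem_vanishingIdeal X a).1 ha x hxX) (Ideal.span_le.2 ?_)
        rintro _ ⟨i, rfl⟩
        simpa using hx i.castSucc
      obtain ⟨q, hq, hqx⟩ := Ideal.exists_minimalPrimes_le hIx
      let w : ProjectiveSpectrum (CohB1.polyGrading n k) :=
        ⟨⟨q, SegreLib.minimalPrime_isHomogeneous _ hI hq⟩, hq.1.1, fun hle => x.not_irrelevant_le (hle.trans hqx)⟩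
      have hwx : w ≤ x := hqx
      have hwX : w ∈ X := by
        rw [← hX.closure_eq, ← ProjectiveSpectrum.zeroLocus_vanishingIdeal_eq_closure]
        exact fun a ha => hq.1.2 (Ideal.mem_sup_left ha)
      have hwY : w ∉ Y := fun hw => hxY (mem_of_le hY hw hwx)
      have hwJ : ¬ J.toIdeal ≤ q := fun hle => hwY (by
        rw [← hY.closure_eq, ← ProjectiveSpectrum.zeroLocus_vanishingIdeal_eq_closure]
        exact fun a ha => hle ha)
      have hwS : w ∈ hS'.toFinset := (Set.Finite.mem_toFinset hS').2 ⟨hq, hwJ⟩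
      have hgx : g ∈ x.asHomogeneousIdeal := by simpa using hx (Fin.last j)
      have hne : w ≠ x := fun e' => hgS w hwS (e' ▸ hgx)
      have h1 := hdim w hwX hwY fun i => hq.1.2 (Ideal.mem_sup_right (Ideal.subset_span ⟨i, rfl⟩))
      have h2 := dPt_lt (lt_of_le_of_ne hwx hne)
      omega

end ProjSectLib
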