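import Groth.Agent.ProjDimLib.Basic

/-! Dimension of intersections with hypersurfaces in projective space. -/

set_option autoImplicit false
universe u

open AlgebraicGeometry Topology TopologicalSpace

noncomputable section

namespace ProjSectLib

open ProjDimLib

variable {k : Type u} [Field k] {n : ℕ}

local notation "S'" => MvPolynomial (Fin (n + 1)) k
local notation "𝒜" => CohB1.polyGrading n k
local notation "ℙ'" => ProjectiveSpectrum (CohB1.polyGrading n k)

theorem dPt_le_add (x : ℙ') : ∀ (r : ℕ) (f : Fin r → S') (d : Fin r → ℕ),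
    (∀ i, (f i).IsHomogeneous (d i)) → (∀ i, 0 < d i) → ∀ y : ℙ', x ≤ y →
      (∀ i, f i ∈ y.asHomogeneousIdeal) →
      (∀ w : ℙ', x ≤ w → (∀ i, f i ∈ w.asHomogeneousIdeal) → w ≤ y → w = y) →
      dPt x ≤ dPt y + r := by
  intro r
  induction r with
  | zero =>
    intro f d _ _ y hxy _ hmin
    rw [hmin x le_rfl (fun i => i.elim0) hxy]
    omega
  | succ r ih =>
    intro f d hf hd y hxy hfy hmin
    classical
    let S : Set ℙ' := {w | x ≤ w ∧ (∀ i : Fin r, f i.castSucc ∈ w.asHomogeneousIdeal) ∧ w ≤ y}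
    have hyS : y ∈ S := ⟨hxy, fun i => hfy _, le_rfl⟩
    let P : ℕ → Prop := fun m => ∃ w ∈ S, dPt x - dPt w = m
    have hP : ∃ m, P m := ⟨_, y, hyS, rfl⟩
    obtain ⟨z, ⟨hxz, hfz, hzy⟩, hzm⟩ := Nat.find_spec hP
    have hzmin : ∀ w : ℙ', x ≤ w → (∀ i : Fin r, f i.castSucc ∈ w.asHomogeneousIdeal) → w ≤ z → w = z := by
      intro w hxw hfw hwz
      by_contra hne
      have h1 := dPt_lt (lt_of_le_of_ne hwz hne)
      have h2 := dPt_antitone hxw
      have h3 : P (dPt x - dPt w) := ⟨w, ⟨hxw, hfw, hwz.trans hzy⟩, rfl⟩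
      have h4 := Nat.find_min' hP h3
      omega
    have hz := ih (fun i => f i.castSucc) (fun i => d i.castSucc) (fun i => hf _) (fun i => hd _) z hxz hfz hzmin
    by_cases hlast : f (Fin.last r) ∈ z.asHomogeneousIdeal
    · have : z = y := hmin z hxz (fun i => by
        induction i using Fin.lastCases with
        | last => exact hlast
        | cast i => exact hfz i) hzy
      subst this; omega
    · have hzne : z < y := lt_of_le_of_ne hzy fun e => hlast (e ▸ hfy _)
      obtain ⟨t, ht⟩ : ∃ t, dPt z = t + 1 := ⟨dPt z - 1, by have := dPt_lt hzne; omega⟩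
      have hle : z.asHomogeneousIdeal.toIdeal ⊔ Ideal.span {f (Fin.last r)} ≤ y.asHomogeneousIdeal.toIdeal :=
        sup_le hzy ((Ideal.span_singleton_le_iff_mem _).2 (hfy _))
      obtain ⟨q, hq, hqy⟩ := Ideal.exists_minimalPrimes_le hle
      have : q.IsPrime := hq.1.1
      obtain ⟨hqh, hqt, hqne⟩ := GradedHilbLib.natDegree_of_mem_minimalPrimes (HomogeneousIdeal.isHomogeneous _)
        ((MvPolynomial.mem_homogeneousSubmodule _ _).2 (hf (Fin.last r))) hlast ht hq
      let w : ℙ' := mkPt q hqh hqne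
      have hzw : z ≤ w := le_sup_left.trans hq.1.2
      have hwy : w = y := hmin w (hxz.trans hzw) (fun i => by
        induction i using Fin.lastCases with
        | last => exact hq.1.2 (Ideal.mem_sup_right (Ideal.mem_span_singleton_self _))
        | cast i => exact hzw (hfz i)) hqy
      have hw : dPt w = t := hqt
      rw [hwy] at hw
      omega

theorem exists_mem (x : ℙ') : ∀ (r : ℕ) (f : Fin r → S') (d : Fin r → ℕ),
    (∀ i, (f i).IsHomogeneous (d i)) → (∀ i, 0 < d i) → r ≤ dPt x →
      ∃ y : ℙ', x ≤ y ∧ (∀ i, f i ∈ y.asHomogeneousIdeal) ∧ dPt x ≤ dPt y + r := by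
  intro r
  induction r with
  | zero => intro f d _ _ _; exact ⟨x, le_rfl, fun i => i.elim0, le_self_add⟩
  | succ r ih =>
    intro f d hf hd hr
    obtain ⟨z, hxz, hfz, hz⟩ := ih (fun i => f i.castSucc) (fun i => d i.castSucc) (fun i => hf _) (fun i => hd _)
      (by omega)
    by_cases hlast : f (Fin.last r) ∈ z.asHomogeneousIdeal
    · exact ⟨z, hxz, fun i => by
        induction i using Fin.lastCases with
        | last => exact hlast
        | cast i => exact hfz i, by omega⟩
    · obtain ⟨t, ht⟩ : ∃ t, dPt z = t + 1 := ⟨dPt z - 1, by omega⟩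
      have hfA : f (Fin.last r) ∈ 𝒜 (d (Fin.last r)) := (MvPolynomial.mem_homogeneousSubmodule _ _).2 (hf _)
      obtain ⟨q, hq, hqh, hle, hfq, hdeg, hne⟩ := exists_prime_section (HomogeneousIdeal.isHomogeneous _) hfA
        (GradedHilbLib.piece_le_idealOfVars _ (hd _) hfA) hlast ht
      let w : ℙ' := mkPt q hqh hne
      have hw : dPt w = t := hdeg
      exact ⟨w, hxz.trans hle, fun i => by
        induction i using Fin.lastCases with
        | last => exact hfq
        | cast i => exact hle (hfz i), by omega⟩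

end ProjSectLib

end
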