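import Groth.Agent.ProjSectLib.Basic
import Groth.Agent.GenusZeroLib.PSpace
import Groth.Agent.HomogFactorLib.Basic

/-! Irreducible forms and points of projective space. -/

set_option autoImplicit false
universe u

open AlgebraicGeometry

namespace ProjSectLib

variable {k : Type u} [Field k] {n : ℕ}

local notation "P'" => MvPolynomial (Fin (n + 1)) k
local notation "ℙ'" => ProjectiveSpectrum (CohB1.polyGrading n k)

theorem genPt_le (z : ℙ') : GenusZeroLib.genPt k n ≤ z := fun a ha => by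
  have h0 : a = 0 := (Submodule.mem_bot _).mp ha
  exact h0 ▸ zero_mem z.asHomogeneousIdeal.toIdeal

theorem exists_formPt {f : P'} {d : ℕ} (hd : f.IsHomogeneous d) (hf : Irreducible f) {z : ℙ'}
    (hz : f ∈ z.asHomogeneousIdeal) :
    ∃ y : ℙ', y.asHomogeneousIdeal.toIdeal = Ideal.span {f} ∧ y ≤ z :=
  ⟨⟨⟨Ideal.span {f}, Ideal.homogeneous_span _ _ (by rintro a rfl; exact ⟨d, hd⟩)⟩,
      (Ideal.span_singleton_prime hf.ne_zero).mpr hf.prime,
      fun h => z.not_irrelevant_le (le_trans h ((Ideal.span_singleton_le_iff_mem _).mpr hz))⟩, rfl,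
    (Ideal.span_singleton_le_iff_mem z.asHomogeneousIdeal.toIdeal).mpr hz⟩

theorem pos_degree {g : P'} {e : ℕ} (hg : Irreducible g) (he : g.IsHomogeneous e) : 0 < e := by
  refine Nat.pos_of_ne_zero fun he0 => ?_
  subst he0
  have hgc : g = MvPolynomial.C (g.coeff 0) :=
    MvPolynomial.totalDegree_eq_zero_iff_eq_C.mp (Nat.le_zero.mp he.totalDegree_le)
  refine hg.not_isUnit ?_
  rw [hgc]
  refine IsUnit.map _ (Ne.isUnit fun h0 => hg.ne_zero ?_)
  rw [hgc, h0, map_zero]

theorem exists_form_mem {z : ℙ'} (hz : z ≠ GenusZeroLib.genPt k n) :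
    ∃ (f : P') (d : ℕ), f.IsHomogeneous d ∧ Irreducible f ∧ f ∈ z.asHomogeneousIdeal := by
  classical
  obtain ⟨a, ha, ha0⟩ : ∃ a ∈ z.asHomogeneousIdeal.toIdeal, a ≠ 0 := by
    by_contra! h
    exact hz (le_antisymm (fun a ha => by
      rw [h a ha]
      exact zero_mem (GenusZeroLib.genPt k n).asHomogeneousIdeal.toIdeal) (genPt_le z))
  obtain ⟨e, he⟩ : ∃ e, MvPolynomial.homogeneousComponent e a ≠ 0 := by
    by_contra! h
    exact ha0 (by rw [← MvPolynomial.sum_homogeneousComponent a]; simp [h])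
  set b := MvPolynomial.homogeneousComponent e a
  have hb : b ∈ z.asHomogeneousIdeal.toIdeal := by
    have := z.asHomogeneousIdeal.2 e ha
    rwa [show (↑((DirectSum.decompose (CohB1.polyGrading n k) a) e) : P') = b from
      MvPolynomial.decomposition.decompose'_apply a e] at this
  obtain ⟨s, hs, u, hu⟩ := WfDvdMonoid.exists_factors b he
  have hprod : s.prod ∈ z.asHomogeneousIdeal.toIdeal := by
    rw [← hu] at hb
    exact (Ideal.mul_unit_mem_iff_mem _ u.isUnit).mp hb
  obtain ⟨f, hfs, hf⟩ := z.isPrime.multiset_prod_mem_iff_exists_mem s |>.mp hprod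
  obtain ⟨g, hg⟩ : f ∣ b := (Multiset.dvd_prod hfs).trans ⟨u, hu.symm⟩
  have hbh : (f * g).IsHomogeneous e := by
    rw [← hg]; exact MvPolynomial.homogeneousComponent_isHomogeneous e a
  have hg0 : g ≠ 0 := fun h0 => he (by rw [hg, h0, mul_zero])
  obtain ⟨d, hd⟩ := HomogFactorLib.exists_isHomogeneous_of_mul (hs f hfs).ne_zero hg0 hbh
  exact ⟨f, d, hd, hs f hfs, hf⟩

end ProjSectLib
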